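import Mathlib

/-!
# Binomial divisibility for Kummer torsors at level `j`
-/

universe u

namespace GrothLib.KummerLevel1

open Polynomial

theorem pow_dvd_choose {p : ℕ} (hp : p.Prime) (n i : ℕ) (hi : i ≠ 0) (hv : i.factorization p ≤ n) :
    p ^ (n - i.factorization p) ∣ (p ^ n).choose i := by
  set v := i.factorization p with hvdef
  obtain ⟨i', rfl⟩ : ∃ i', i = i' + 1 := ⟨i - 1, by omega⟩
  have hN : p ^ n = (p ^ n - 1) + 1 := by have := Nat.one_le_pow n p hp.pos; omega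
  have h1 : p ^ n ∣ (p ^ n).choose (i' + 1) * (i' + 1) := by
    conv_rhs => rw [hN, ← Nat.add_one_mul_choose_eq, ← hN]
    exact dvd_mul_right _ _
  have hm : ¬ p ∣ (i' + 1) / p ^ v := Nat.not_dvd_ordCompl hp (by omega)
  have h1' : p ^ n ∣ (p ^ n).choose (i' + 1) * p ^ v * ((i' + 1) / p ^ v) := by
    rwa [mul_assoc, Nat.ordProj_mul_ordCompl_eq_self]
  have h2 := (((hp.coprime_iff_not_dvd).2 hm).pow_left n).dvd_of_dvd_mul_right h1'
  exact Nat.dvd_of_mul_dvd_mul_right (pow_pos hp.pos v)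
    ((dvd_of_eq (by rw [← pow_add, Nat.sub_add_cancel hv])).trans h2)

theorem pow_le_aux {p : ℕ} (hp : 1 ≤ p) : ∀ {n v : ℕ}, v ≤ n →
    p ^ n ≤ (n - v) * p ^ (n - 1) * (p - 1) + p ^ v := by
  intro n
  induction n with
  | zero => intro v hv; simp [Nat.le_zero.1 hv]
  | succ n ih =>
    intro v hv
    rcases Nat.lt_or_ge n v with h | h
    · rw [show v = n + 1 by omega]; simp
    · have h0 := ih h
      have h1 : (n - v) * p ^ (n - 1) * (p - 1) ≤ (n - v) * p ^ n * (p - 1) :=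
        Nat.mul_le_mul_right _ (Nat.mul_le_mul_left _ (Nat.pow_le_pow_right hp (Nat.sub_le n 1)))
      have h2 : p ^ (n + 1) = p ^ n * (p - 1) + p ^ n := by
        rw [pow_succ, ← Nat.mul_succ]
        congr 1
        omega
      rw [h2, show n + 1 - v = (n - v) + 1 by omega, Nat.add_sub_cancel, add_mul, one_mul, add_mul]
      omega

variable {R : Type u} [CommRing R] {p : ℕ} {ϖ : R}

/-- `(p^n choose i) ϖ^{(j+1) i}` is divisible by `ϖ^{(j+1) p^n}` when `ϖ^{p^{n-1}(p-1)(j+1)} ∣ p`. -/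
theorem dvd_choose_mul (hp : p.Prime) (n j : ℕ) (hj : ϖ ^ (p ^ (n - 1) * (p - 1) * (j + 1)) ∣ (p : R))
    {i : ℕ} (hi : i ≠ 0) (hin : i ≤ p ^ n) :
    ϖ ^ ((j + 1) * p ^ n) ∣ ((p ^ n).choose i : R) * ϖ ^ ((j + 1) * i) := by
  set v := i.factorization p
  have hvi : p ^ v ≤ i := Nat.le_of_dvd (by omega) (Nat.ordProj_dvd i p)
  have hv : v ≤ n := (Nat.pow_le_pow_iff_right hp.one_lt).1 (hvi.trans hin)
  have h1 : ((p : R)) ^ (n - v) ∣ ((p ^ n).choose i : R) := by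
    rw [← Nat.cast_pow]
    exact Nat.cast_dvd_cast (pow_dvd_choose hp n i hi hv)
  have h2 := (pow_dvd_pow_of_dvd hj (n - v)).trans h1
  rw [← pow_mul] at h2
  refine dvd_trans ?_ (mul_dvd_mul_right h2 _)
  rw [← pow_add]
  refine pow_dvd_pow ϖ ?_
  calc (j + 1) * p ^ n ≤ (j + 1) * ((n - v) * p ^ (n - 1) * (p - 1) + i) :=
        Nat.mul_le_mul_left _ ((pow_le_aux hp.one_lt.le hv).trans (Nat.add_le_add_left hvi _))
    _ = p ^ (n - 1) * (p - 1) * (j + 1) * (n - v) + (j + 1) * i := by ring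

/-- `(1 + ϖ^{j+1} x)^N - 1` is divisible by `ϖ^{(j+1)N}`, by a universal polynomial. -/
theorem exists_succ_level (hp : p.Prime) (n j : ℕ) (hj : ϖ ^ (p ^ (n - 1) * (p - 1) * (j + 1)) ∣ (p : R)) :
    ∃ P : R[X], ∀ (S : Type u) [CommRing S] [Algebra R S] (x : S),
      (1 + algebraMap R S ϖ ^ (j + 1) * x) ^ p ^ n = 1 + algebraMap R S ϖ ^ ((j + 1) * p ^ n) * aeval x P := by
  choose e he using fun i : Finset.Icc 1 (p ^ n) => dvd_choose_mul hp n j hj
    (i := i.1) (by have := (Finset.mem_Icc.1 i.2).1; omega) (Finset.mem_Icc.1 i.2).2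
  refine ⟨∑ i : Finset.Icc 1 (p ^ n), C (e i) * X ^ i.1, fun S _ _ x => ?_⟩
  have key : ∑ i : Finset.Icc 1 (p ^ n), algebraMap R S ϖ ^ ((j + 1) * p ^ n) * (algebraMap R S (e i) * x ^ i.1) =
      ∑ i ∈ Finset.Icc 1 (p ^ n), (algebraMap R S ϖ ^ (j + 1) * x) ^ i * ((p ^ n).choose i : S) := by
    rw [← Finset.sum_coe_sort (Finset.Icc 1 (p ^ n))]
    refine Finset.sum_congr rfl fun i _ => ?_
    have h := congrArg (algebraMap R S) (he i)
    simp only [map_mul, map_pow, map_natCast] at h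
    rw [← mul_assoc, ← h, mul_pow, ← pow_mul]
    ring
  simp only [map_sum, map_mul, aeval_C, map_pow, aeval_X, Finset.mul_sum, key]
  rw [add_comm 1 (_ * x), add_pow]
  simp only [one_pow, mul_one]
  rw [Finset.range_eq_Ico, Finset.sum_eq_sum_Ico_succ_bot (Nat.succ_pos _)]
  simp only [pow_zero, Nat.choose_zero_right, Nat.cast_one, mul_one]
  congr 1

/-- `(1 + ϖ^j x)^N - 1 = ϖ^{jN} (x^N + ϖ q(x))` with `deg q < N`. -/
theorem exists_level (hp : p.Prime) (n j : ℕ) (hj : ϖ ^ (p ^ (n - 1) * (p - 1) * (j + 1)) ∣ (p : R))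
    (hϖ : IsRegular ϖ) :
    ∃ Q : R[X], Q.degree < (p ^ n : ℕ) ∧ ∀ (S : Type u) [CommRing S] [Algebra R S] (x : S),
      (1 + algebraMap R S ϖ ^ j * x) ^ p ^ n =
        1 + algebraMap R S ϖ ^ (j * p ^ n) * (x ^ p ^ n + algebraMap R S ϖ * aeval x Q) := by
  choose e he using fun i : Finset.Ico 1 (p ^ n) => dvd_choose_mul hp n j hj
    (i := i.1) (by have := (Finset.mem_Ico.1 i.2).1; omega) (Finset.mem_Ico.1 i.2).2.le
  have he' : ∀ i : Finset.Ico 1 (p ^ n), ((p ^ n).choose i.1 : R) * ϖ ^ (j * i.1) =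
      ϖ ^ (j * p ^ n) * (ϖ * (ϖ ^ (p ^ n - i.1 - 1) * e i)) := by
    intro i
    have hlt := (Finset.mem_Ico.1 i.2).2
    have h := he i
    rw [show (j + 1) * i.1 = j * i.1 + i.1 by ring, show (j + 1) * p ^ n = j * p ^ n + (i.1 + (p ^ n - i.1)) by
      rw [Nat.add_sub_cancel' hlt.le]; ring, pow_add, pow_add, pow_add] at h
    refine (IsRegular.pow i.1 hϖ).right.eq_iff.1 ?_
    rw [show ϖ ^ (p ^ n - i.1) = ϖ * ϖ ^ (p ^ n - i.1 - 1) by
      rw [← pow_succ']; congr 1; omega] at h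
    linear_combination h
  refine ⟨∑ i : Finset.Ico 1 (p ^ n), C (ϖ ^ (p ^ n - i.1 - 1) * e i) * X ^ i.1, ?_, fun S _ _ x => ?_⟩
  · refine lt_of_le_of_lt (degree_sum_le _ _) ((Finset.sup_lt_iff (WithBot.bot_lt_coe _)).2 fun i _ => ?_)
    exact lt_of_le_of_lt (degree_C_mul_X_pow_le _ _) (WithBot.coe_lt_coe.2 (Finset.mem_Ico.1 i.2).2)
  have key : ∑ i : Finset.Ico 1 (p ^ n), algebraMap R S ϖ ^ (j * p ^ n) *
      (algebraMap R S ϖ * (algebraMap R S (ϖ ^ (p ^ n - i.1 - 1) * e i) * x ^ i.1)) =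
      ∑ i ∈ Finset.Ico 1 (p ^ n), (algebraMap R S ϖ ^ j * x) ^ i * ((p ^ n).choose i : S) := by
    rw [← Finset.sum_coe_sort (Finset.Ico 1 (p ^ n))]
    refine Finset.sum_congr rfl fun i _ => ?_
    have h := congrArg (algebraMap R S) (he' i)
    simp only [map_mul, map_pow, map_natCast] at h
    rw [mul_pow, ← pow_mul, map_mul, map_pow]
    linear_combination (-(x ^ i.1)) * h
  simp only [map_sum, map_mul, aeval_C, map_pow, aeval_X, Finset.mul_sum, mul_add] at key ⊢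
  rw [key, add_comm 1 (_ * x), add_pow]
  simp only [one_pow, mul_one]
  rw [Finset.range_eq_Ico, Finset.sum_eq_sum_Ico_succ_bot (Nat.succ_pos _),
    Finset.sum_Ico_succ_top (Nat.one_le_pow _ _ hp.pos)]
  simp only [pow_zero, Nat.choose_zero_right, Nat.cast_one, mul_one, Nat.choose_self, mul_pow, ← pow_mul]
  ring

end GrothLib.KummerLevel1
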